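import Mathlib
import Cfsg.Prelude.Def_CaseTheorems
import Cfsg.Agent.S0205
import Cfsg.Agent.Lib.Hall.Solvable
import Cfsg.Agent.Lib.Transfer.NormalComplement
import Cfsg.Agent.Lib.PCore.Basic

/-!
Subgroups of order `m` when `m` is a Hall divisor of the order: common tools, `m ≡ 2 (mod 4)` and
`m = 12`.
-/

set_option autoImplicit false
set_option linter.style.haveILetI false

open Subgroup

namespace CfsgLib.HallNumbers

universe u

variable {G : Type u} [Group G] [Finite G]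

theorem solvable_odd (h : Odd (Nat.card G)) : Group.IsSolvable G := Cfsg.Agent.S0205.result h

theorem solvable_of_npc (h : Cfsg.HasNormalPComplement 2 G) : Group.IsSolvable G := by
  haveI : Fact (Nat.Prime 2) := ⟨Nat.prime_two⟩
  haveI := CfsgLib.Transfer.pResidual_normal (G := G) (p := 2)
  have h2 := CfsgLib.Transfer.hasNormalPComplement_iff.1 h
  haveI : Group.IsSolvable (Cfsg.pResidual 2 G) :=
    solvable_odd (by rwa [← Nat.not_even_iff_odd, even_iff_two_dvd])
  haveI : Group.IsNilpotent (G ⧸ Cfsg.pResidual 2 G) :=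
    (CfsgLib.Transfer.isPGroup_quotient_of_pResidual_le _ le_rfl).isNilpotent
  exact solvable_of_ker_le_range (Cfsg.pResidual 2 G).subtype (QuotientGroup.mk' (Cfsg.pResidual 2 G))
    (by rw [QuotientGroup.ker_mk', range_subtype])

theorem solvable_of_not_four_dvd (h : ¬ 4 ∣ Nat.card G) : Group.IsSolvable G := by
  haveI : Fact (Nat.Prime 2) := ⟨Nat.prime_two⟩
  by_cases h2 : 2 ∣ Nat.card G
  · obtain ⟨P⟩ : Nonempty (Sylow 2 G) := inferInstance
    obtain ⟨k, hk⟩ := P.2.exists_card_eq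
    have hk1 : k ≤ 1 := by
      by_contra hlt
      exact h ((show 4 ∣ 2 ^ k from (show 4 = 2 ^ 2 by norm_num) ▸ pow_dvd_pow 2 (by omega)).trans
        (hk ▸ card_subgroup_dvd_card (P : Subgroup G)))
    haveI : IsCyclic (P : Subgroup G) := by
      rcases Nat.le_one_iff_eq_zero_or_eq_one.1 hk1 with e | e
      · haveI : Subsingleton (P : Subgroup G) :=
          (Nat.card_eq_one_iff_unique.1 (by rw [hk, e, pow_zero])).1
        infer_instance
      · exact isCyclic_of_prime_card (p := 2) (by rw [hk, e, pow_one])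
    have hPc : IsCyclic (P : Subgroup G) := inferInstance
    exact solvable_of_npc (CfsgLib.Transfer.hasNormalPComplement_of_normalizer_le P
      (hPc.normalizer_le_centralizer ((Nat.minFac_eq_two_iff _).2 h2)))
  · exact solvable_odd (Nat.not_even_iff_odd.1 fun e => h2 e.two_dvd)

/-- Hall subgroups of a solvable subgroup whose order is divisible by `m`. -/
theorem exists_card_of_solvable {m : ℕ} (hd : m ∣ Nat.card G) (hc : m.Coprime (Nat.card G / m))
    (X : Subgroup G) [Group.IsSolvable X] (hX : m ∣ Nat.card X) :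
    ∃ H : Subgroup G, Nat.card H = m := by
  obtain ⟨k, hk⟩ := hX
  have hm : 0 < m := Nat.pos_of_ne_zero fun e => by
    rw [e, zero_mul] at hk; exact (Nat.card_pos (α := X)).ne' hk
  have hkd : k ∣ Nat.card G / m := by
    obtain ⟨j, hj⟩ := card_subgroup_dvd_card X
    rw [hk, mul_assoc] at hj
    rw [hj, Nat.mul_div_cancel_left _ hm]
    exact dvd_mul_right k j
  obtain ⟨H, hH⟩ := CfsgLib.Hall.exists_subgroup_card hk (hc.coprime_dvd_right hkd)
  exact ⟨H.map X.subtype, by rw [card_subtype, hH]⟩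

theorem exists_card_of_isSolvable [Group.IsSolvable G] {m : ℕ} (hd : m ∣ Nat.card G)
    (hc : m.Coprime (Nat.card G / m)) : ∃ H : Subgroup G, Nat.card H = m :=
  exists_card_of_solvable hd hc ⊤ (by rwa [card_top])

theorem not_two_mul_dvd {m : ℕ} (hd : m ∣ Nat.card G) (hc : m.Coprime (Nat.card G / m)) {p : ℕ}
    (hp : p.Prime) (hpm : p ∣ m) {e : ℕ} (he : ¬ p ^ e ∣ m) : ¬ p ^ e ∣ Nat.card G := by
  intro h
  rw [← Nat.mul_div_cancel' hd] at h
  have h1 : (p ^ e).Coprime (Nat.card G / m) :=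
    Nat.Coprime.pow_left e (hc.coprime_dvd_left hpm)
  exact he (h1.dvd_of_dvd_mul_right h)

theorem two_mod_four {m : ℕ} (hm : m % 4 = 2) (hd : m ∣ Nat.card G)
    (hc : m.Coprime (Nat.card G / m)) : ∃ H : Subgroup G, Nat.card H = m := by
  haveI : Group.IsSolvable G := solvable_of_not_four_dvd
    (by simpa using not_two_mul_dvd hd hc Nat.prime_two (by omega) (e := 2) (by omega))
  exact exists_card_of_isSolvable hd hc

theorem prime_pow {m : ℕ} (hm : IsPrimePow m) (hd : m ∣ Nat.card G) :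
    ∃ H : Subgroup G, Nat.card H = m := by
  obtain ⟨p, k, hp, -, rfl⟩ := hm
  haveI : Fact p.Prime := ⟨hp.nat_prime⟩
  exact Sylow.exists_subgroup_card_pow_prime p hd

/-- A large 2-subgroup has a solvable normalizer. -/
theorem solvable_normalizer {a : ℕ} (h2 : ¬ 2 ^ (a + 1) ∣ Nat.card G) {U : Subgroup G}
    (hU : IsPGroup 2 U) (hcard : 2 ^ (a - 1) ∣ Nat.card U) :
    Group.IsSolvable (normalizer (U : Set G)) := by
  haveI : Fact (Nat.Prime 2) := ⟨Nat.prime_two⟩
  set N := normalizer (U : Set G)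
  set V := U.subgroupOf N with hV
  haveI : V.Normal := normal_in_normalizer
  have hVcard : Nat.card V = Nat.card U :=
    Nat.card_congr (subgroupOfEquivOfLe le_normalizer).toEquiv
  haveI : Group.IsNilpotent V :=
    (hU.of_equiv (subgroupOfEquivOfLe le_normalizer).symm).isNilpotent
  haveI : Group.IsSolvable (N ⧸ V) := by
    refine solvable_of_not_four_dvd fun h4 => h2 ?_
    have h1 := card_eq_card_quotient_mul_card_subgroup V
    have h3 : 4 * 2 ^ (a - 1) ∣ Nat.card N := by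
      rw [h1, hVcard]; exact Nat.mul_dvd_mul h4 hcard
    refine (dvd_trans ?_ h3).trans (card_subgroup_dvd_card N)
    rw [show 4 = 2 ^ 2 by norm_num, ← pow_add]
    exact pow_dvd_pow 2 (by omega)
  exact solvable_of_ker_le_range V.subtype (QuotientGroup.mk' V)
    (by rw [QuotientGroup.ker_mk', range_subtype])

/-- Without a normal 2-complement some 2-subgroup has an automorphism of odd prime order. -/
theorem exists_fusion (hn : ¬ Cfsg.HasNormalPComplement 2 G) :
    ∃ (U : Subgroup G) (r : ℕ) (g : G) (hg : g ∈ normalizer (U : Set G)), IsPGroup 2 U ∧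
      r.Prime ∧ r ≠ 2 ∧ orderOf (U.normalizerMonoidHom ⟨g, hg⟩) = r := by
  haveI : Fact (Nat.Prime 2) := ⟨Nat.prime_two⟩
  have h : ¬ CfsgLib.Transfer.FrobeniusCond 2 G := fun hc =>
    hn (CfsgLib.Transfer.hasNormalPComplement_of_frobeniusCond hc)
  rw [CfsgLib.Transfer.FrobeniusCond] at h
  push Not at h
  obtain ⟨U, hU, g, hg, hgo, hgc⟩ := h
  set φ := U.normalizerMonoidHom with hφ
  set d := orderOf (φ ⟨g, hg⟩) with hd
  have hd1 : d ≠ 1 := by
    intro e
    rw [hd, orderOf_eq_one_iff, ← MonoidHom.mem_ker, hφ, normalizerMonoidHom_ker,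
      mem_subgroupOf] at e
    exact hgc e
  have hdg : d ∣ orderOf g := by
    rw [hd, ← Subgroup.orderOf_mk g hg]
    exact orderOf_map_dvd φ _
  obtain ⟨r, hr, hrd⟩ := Nat.exists_prime_and_dvd hd1
  have hr2 : r ≠ 2 := by
    rintro rfl
    exact absurd (Nat.eq_one_of_dvd_coprimes hgo (hrd.trans hdg) dvd_rfl) (by norm_num)
  refine ⟨U, r, g ^ (d / r), pow_mem hg _, hU, hr, hr2, ?_⟩
  have e : φ ⟨g ^ (d / r), pow_mem hg _⟩ = φ ⟨g, hg⟩ ^ (d / r) := by
    rw [← map_pow]; rfl
  have hdpos : 0 < d := orderOf_pos _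
  rw [e, orderOf_pow_of_dvd (Nat.div_pos (Nat.le_of_dvd hdpos hrd) hr.pos).ne'
    (Nat.div_dvd_of_dvd hrd), Nat.div_div_self hrd hdpos.ne']

/-- The order of a fixed-point subgroup. -/
theorem exists_fixed {U : Subgroup G} {φ : MulAut U} {r : ℕ} (hr : r.Prime) (hφ : orderOf φ = r) :
    ∃ K : Subgroup U, (∀ x, x ∈ K ↔ φ x = x) ∧ K ≠ ⊤ ∧ Nat.card U ≡ Nat.card K [MOD r] := by
  haveI : Fact r.Prime := ⟨hr⟩
  let K : Subgroup U := φ.toMonoidHom.eqLocus (MonoidHom.id U)
  refine ⟨K, fun x => Iff.rfl, fun e => ?_, ?_⟩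
  · have : φ = 1 := MulEquiv.ext fun x => (e ▸ mem_top x : x ∈ K)
    rw [this, orderOf_one] at hφ
    exact hr.one_lt.ne hφ
  · have hp : IsPGroup r (zpowers φ) := IsPGroup.of_card (n := 1) (by rw [Nat.card_zpowers, hφ, pow_one])
    refine (hp.card_modEq_card_fixedPoints U).trans ?_
    refine congrArg (· % r) ?_
    refine Nat.card_congr (Equiv.subtypeEquivRight fun x => ?_)
    rw [MulAction.mem_fixedPoints]
    refine ⟨fun h => h ⟨φ, mem_zpowers φ⟩, fun h z => ?_⟩
    have hx : φ ∈ MulAction.stabilizer (MulAut U) x := h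
    exact (zpowers_le.2 hx) z.2

/-- The data of a fusing element when the 2-part is at most eight. -/
theorem fusion_cases {a : ℕ} (ha : a ≤ 3) (h2 : ¬ 2 ^ (a + 1) ∣ Nat.card G)
    (hn : ¬ Cfsg.HasNormalPComplement 2 G) :
    (∃ U : Subgroup G, IsPGroup 2 U ∧ 4 ∣ Nat.card U ∧ 3 ∣ Nat.card (normalizer (U : Set G))) ∨
      ∃ U : Subgroup G, a = 3 ∧ Nat.card U = 8 ∧ ∃ n ∈ normalizer (U : Set G),
        ∀ x ∈ U, ∀ y ∈ U, x ≠ 1 → y ≠ 1 → ∃ i : ℤ, n ^ i * x * (n ^ i)⁻¹ = y := by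
  obtain ⟨U, r, g, hg, hU, hr, hr2, hord⟩ := exists_fusion hn
  haveI : Fact (Nat.Prime 2) := ⟨Nat.prime_two⟩
  haveI : Fact r.Prime := ⟨hr⟩
  set φ := U.normalizerMonoidHom ⟨g, hg⟩ with hφ
  obtain ⟨K, hK, hKne, hmod⟩ := exists_fixed hr hord
  obtain ⟨b, hb⟩ := hU.exists_card_eq
  have hba : b ≤ a := by
    by_contra hlt
    exact h2 ((pow_dvd_pow 2 (by omega)).trans (hb ▸ card_subgroup_dvd_card U))
  obtain ⟨c, hc, hKc⟩ := (Nat.dvd_prime_pow Nat.prime_two).1 (hb ▸ card_subgroup_dvd_card K)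
  have hcb : c < b := lt_of_le_of_ne hc fun e => hKne (eq_top_of_card_eq _ (by rw [hKc, hb, e]))
  rw [hb, hKc] at hmod
  have hrd : r ∣ 2 ^ b - 2 ^ c :=
    (Nat.modEq_iff_dvd' (Nat.pow_le_pow_right two_pos hc)).1 hmod.symm
  have hrN : r ∣ Nat.card (normalizer (U : Set G)) :=
    hord ▸ ((orderOf_map_dvd U.normalizerMonoidHom _).trans (orderOf_dvd_natCard _))
  have key : (r = 3 ∧ 2 ≤ b) ∨ (r = 7 ∧ b = 3 ∧ c = 0) := by
    have hle := Nat.le_of_dvd (Nat.sub_pos_of_lt (Nat.pow_lt_pow_right one_lt_two hcb)) hrd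
    have h3 := hr.two_le
    have hb3 : b ≤ 3 := hba.trans ha
    interval_cases b <;> interval_cases c <;> norm_num at hle hrd ⊢ <;>
      interval_cases r <;> first | omega | norm_num at hr
  rcases key with ⟨rfl, hb2⟩ | ⟨rfl, rfl, rfl⟩
  · refine Or.inl ⟨U, hU, ?_, hrN⟩
    rw [hb, show 4 = 2 ^ 2 by norm_num]
    exact pow_dvd_pow 2 hb2
  · refine Or.inr ⟨U, by omega, by rw [hb]; norm_num, g, hg, fun x hx y hy hx1 hy1 => ?_⟩
    have hKbot : K = ⊥ := eq_bot_of_card_eq _ (by rw [hKc, pow_zero])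
    classical
    haveI : Fintype U := Fintype.ofFinite _
    set x' : U := ⟨x, hx⟩
    have hx'1 : x' ≠ 1 := fun e => hx1 (congrArg Subtype.val e)
    set O := MulAction.orbit (zpowers φ) x'
    have hp : IsPGroup 7 (zpowers φ) :=
      IsPGroup.of_card (n := 1) (by rw [Nat.card_zpowers, hord, pow_one])
    obtain ⟨j, hj⟩ := hp.card_orbit x'
    have hj0 : j ≠ 0 := by
      rintro rfl
      rw [pow_zero, Nat.card_eq_one_iff_unique] at hj
      haveI := hj.1
      have : φ x' = x' := congrArg Subtype.val (Subsingleton.elim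
        (⟨φ x', ⟨φ, mem_zpowers φ⟩, rfl⟩ : O) ⟨x', MulAction.mem_orbit_self x'⟩)
      exact hx'1 (by rw [← mem_bot, ← hKbot]; exact (hK x').2 this)
    have h7 : 7 ≤ O.toFinset.card := by
      rw [Set.toFinset_card, ← Nat.card_eq_fintype_card, hj]
      exact le_trans (by norm_num) (Nat.pow_le_pow_right (by norm_num) (Nat.one_le_iff_ne_zero.2 hj0))
    have h1O : (1 : U) ∉ O.toFinset := by
      rw [Set.mem_toFinset]
      rintro ⟨⟨z, hz⟩, hz'⟩
      exact hx'1 (z.injective (hz'.trans (map_one z).symm))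
    have hfull : insert (1 : U) O.toFinset = Finset.univ := by
      refine Finset.eq_univ_of_card _ (le_antisymm (Finset.card_le_univ _) ?_)
      rw [Finset.card_insert_of_notMem h1O, ← Nat.card_eq_fintype_card, hb]
      rw [show (2 : ℕ) ^ 3 = 8 from rfl]
      omega
    have hy' : (⟨y, hy⟩ : U) ∈ insert (1 : U) O.toFinset := hfull ▸ Finset.mem_univ _
    rw [Finset.mem_insert, Set.mem_toFinset] at hy'
    rcases hy' with hy' | ⟨⟨z, hz⟩, hzy⟩
    · exact absurd (congrArg Subtype.val hy') hy1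
    obtain ⟨i, rfl⟩ := hz
    refine ⟨i, ?_⟩
    have e : φ ^ i = U.normalizerMonoidHom (⟨g, hg⟩ ^ i) := by rw [hφ, map_zpow]
    have h := congrArg Subtype.val hzy
    change (((φ ^ i) x' : U) : G) = y at h
    rw [e] at h
    exact h

theorem twelve (hd : 12 ∣ Nat.card G) (hc : Nat.Coprime 12 (Nat.card G / 12)) :
    ∃ H : Subgroup G, Nat.card H = 12 := by
  by_cases hn : Cfsg.HasNormalPComplement 2 G
  · haveI := solvable_of_npc hn
    exact exists_card_of_isSolvable hd hc
  have h8 : ¬ 2 ^ (2 + 1) ∣ Nat.card G :=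
    not_two_mul_dvd hd hc Nat.prime_two (by norm_num) (by norm_num)
  rcases fusion_cases (a := 2) (by norm_num) h8 hn with ⟨U, hU, h4, h3⟩ | ⟨U, ha, -⟩
  · haveI := solvable_normalizer h8 hU (dvd_trans (by norm_num) h4)
    refine exists_card_of_solvable hd hc (normalizer (U : Set G)) ?_
    exact Nat.Coprime.mul_dvd_of_dvd_of_dvd (by norm_num : Nat.Coprime 4 3)
      (h4.trans (card_dvd_of_le le_normalizer)) h3
  · omega

end CfsgLib.HallNumbers
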