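import Cfsg.Agent.Lib.PSL2.MaxExceptional
import Mathlib.NumberTheory.LSeries.PrimesInAP

/-!
For an integer `m` which is neither a prime power, nor `2 mod 4`, nor one of `12, 24, 60`, a group whose
order has `m` as a Hall divisor without having a subgroup of order `m`.
-/

set_option autoImplicit false
set_option linter.unusedSectionVars false

namespace CfsgLib.HallNumbers

open CfsgLib.PSL2

/-- The possible orders of subgroups of `PSL₂(r)`, `r` an odd prime. -/
theorem psl_prime_subgroup_card (r : ℕ) [Fact r.Prime] (hr : r ≠ 2)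
    (H : Subgroup (Matrix.ProjectiveSpecialLinearGroup (Fin 2) (ZMod r))) :
    2 * Nat.card H ∣ r * (r - 1) ∨
      (∃ k, (2 * k ∣ r + 1 ∨ 2 * k ∣ r - 1) ∧ (Nat.card H = k ∨ Nat.card H = 2 * k)) ∨
      Nat.card H = 12 ∨ Nat.card H = 24 ∨ Nat.card H = 60 ∨
      Nat.card H = Nat.card (Matrix.ProjectiveSpecialLinearGroup (Fin 2) (ZMod r)) := by
  classical
  have hrp : r.Prime := Fact.out
  have hc : Fintype.card (ZMod r) = r := ZMod.card r
  have hodd : Odd (Fintype.card (ZMod r)) := hc.symm ▸ hrp.odd_of_ne_two hr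
  have hg := gcd_eq_two (F := ZMod r) hodd
  have he : Even (r - 1) := by
    rcases hrp.odd_of_ne_two hr with ⟨a, rfl⟩
    exact ⟨a, by omega⟩
  have he' : Even (r + 1) := (hrp.odd_of_ne_two hr).add_one
  rcases dickson_psl (F := ZMod r) r H with ⟨x, hx⟩ | ⟨k, hk, h⟩ | ⟨⟨e⟩⟩ | ⟨⟨e⟩⟩ | ⟨⟨e⟩⟩ | ⟨S, -, h⟩
  · refine Or.inl ?_
    have hle : H ≤ pslPointStab x := fun g hg => hx g hg
    have h2 := card_pslPointStab (F := ZMod r) x
    rw [hg, hc] at h2
    rw [← h2]
    exact Nat.mul_dvd_mul_left 2 (Subgroup.card_dvd_of_le hle)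
  · refine Or.inr (Or.inl ⟨k, ?_, ?_⟩)
    · rw [hg, hc] at hk
      rcases hk with hk | hk
      · exact Or.inl ((Nat.mul_dvd_mul_left 2 hk).trans (Nat.mul_div_cancel' he'.two_dvd).dvd)
      · exact Or.inr ((Nat.mul_dvd_mul_left 2 hk).trans (Nat.mul_div_cancel' he.two_dvd).dvd)
    · rcases h with ⟨-, h⟩ | ⟨⟨e⟩⟩
      · exact Or.inl h
      · exact Or.inr ((Nat.card_congr e.toEquiv).trans DihedralGroup.nat_card)
  · exact Or.inr (Or.inr (Or.inl ((Nat.card_congr e.toEquiv).trans card_alt_four)))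
  · exact Or.inr (Or.inr (Or.inr (Or.inl ((Nat.card_congr e.toEquiv).trans
      (by rw [Nat.card_perm, Nat.card_fin]; rfl)))))
  · exact Or.inr (Or.inr (Or.inr (Or.inr (Or.inl ((Nat.card_congr e.toEquiv).trans card_alt_five)))))
  · refine Or.inr (Or.inr (Or.inr (Or.inr (Or.inr ?_))))
    have : Fintype S := Fintype.ofFinite _
    rw [eq_top_of_model (F := ZMod r) (K := S)
      (by rw [subfield_of_card_prime hrp hc S, hc]) h, Subgroup.card_top]

/-- `2 |PSL₂(r)| = (r + 1) r (r - 1)`. -/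
theorem two_mul_card_psl_prime (r : ℕ) [Fact r.Prime] (hr : r ≠ 2) :
    2 * Nat.card (Matrix.ProjectiveSpecialLinearGroup (Fin 2) (ZMod r)) = (r + 1) * (r * (r - 1)) := by
  classical
  have hc : Fintype.card (ZMod r) = r := ZMod.card r
  have := psl_card_odd (F := ZMod r) (hc.symm ▸ (Fact.out : r.Prime).odd_of_ne_two hr)
  rwa [hc] at this

/-- Odd `m = u v` with coprime `u, v > 1`: a prime `r` with `u ∥ r - 1` and `v ∥ r + 1`. -/
theorem exists_prime_odd {u v : ℕ} (hu : 1 < u) (hv : 1 < v) (huv : u.Coprime v) :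
    ∃ r A B : ℕ, r.Prime ∧ u * v < r ∧ r - 1 = u * A ∧ r + 1 = v * B ∧
      A.Coprime u ∧ B.Coprime v := by
  obtain ⟨r0, h1, h2⟩ := Nat.chineseRemainder (Nat.Coprime.pow 2 2 huv) (1 + u) (v - 1)
  have hcop : r0.Coprime (u ^ 2 * v ^ 2) := by
    refine Nat.Coprime.mul_right (Nat.Coprime.pow_right _ ?_) (Nat.Coprime.pow_right _ ?_)
    · have := (h1.of_dvd (dvd_pow_self u two_ne_zero))
      rw [Nat.Coprime, Nat.gcd_comm, Nat.gcd_rec, this, ← Nat.gcd_rec]
      simp
    · have := (h2.of_dvd (dvd_pow_self v two_ne_zero))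
      rw [Nat.Coprime, Nat.gcd_comm, Nat.gcd_rec, this, ← Nat.gcd_rec,
        Nat.gcd_self_sub_right (by omega)]
      simp
  obtain ⟨r, hr, hrp, hmod⟩ :=
    Nat.forall_exists_prime_gt_and_modEq (u * v) (q := u ^ 2 * v ^ 2) (a := r0) (by positivity) hcop
  have e1 : r ≡ 1 + u [MOD u ^ 2] := (hmod.of_mul_right _).trans h1
  have e2 : r ≡ v - 1 [MOD v ^ 2] := (hmod.of_mul_left _).trans h2
  have hr1 : 1 + u ≤ r := by nlinarith
  have hr2 : v - 1 ≤ r := by nlinarith [Nat.sub_le v 1]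
  obtain ⟨i, hi⟩ := (Nat.modEq_iff_dvd' hr1).1 e1.symm
  obtain ⟨j, hj⟩ := (Nat.modEq_iff_dvd' hr2).1 e2.symm
  refine ⟨r, 1 + u * i, 1 + v * j, hrp, hr, ?_, ?_, ?_, ?_⟩
  · rw [mul_add, mul_one, ← mul_assoc, ← sq, ← hi]; omega
  · rw [mul_add, mul_one, ← mul_assoc, ← sq, ← hj]; omega
  · simp
  · simp

/-- A prime `r` with `2ᵗ ∥ r + 1` and `M ∥ r - 1` up to the factor `2`, for `t ≥ 2` and odd `M`. -/
theorem exists_prime_even {t M : ℕ} (ht : 2 ≤ t) (hM : Odd M) :
    ∃ r A B : ℕ, r.Prime ∧ 2 ^ t * M < r ∧ r - 1 = 2 * (M * A) ∧ r + 1 = 2 ^ t * B ∧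
      A.Coprime (2 * M) ∧ B.Coprime (2 * M) := by
  have hM1 : 1 ≤ M := hM.pos
  have hc : Nat.Coprime (2 ^ (t + 1)) (M ^ 2) :=
    Nat.Coprime.pow _ _ (Nat.coprime_two_left.2 hM)
  obtain ⟨r0, h1, h2⟩ := Nat.chineseRemainder hc (2 ^ t - 1) (1 + M)
  have h2t : 2 ≤ 2 ^ t := le_self_pow₀ (by norm_num) (by omega) |>.trans' le_rfl
  have hcop : r0.Coprime (2 ^ (t + 1) * M ^ 2) := by
    refine Nat.Coprime.mul_right (Nat.Coprime.pow_right _ ?_) (Nat.Coprime.pow_right _ ?_)
    · have := (h1.of_dvd (dvd_pow_self 2 (by omega)))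
      rw [Nat.Coprime, Nat.gcd_comm, Nat.gcd_rec, this, ← Nat.gcd_rec, ← Nat.Coprime]
      rw [Nat.coprime_two_left]
      exact Nat.Even.sub_odd (by omega) ((Nat.even_pow.2 ⟨even_two, by omega⟩)) odd_one
    · have := (h2.of_dvd (dvd_pow_self M two_ne_zero))
      rw [Nat.Coprime, Nat.gcd_comm, Nat.gcd_rec, this, ← Nat.gcd_rec]
      simp
  obtain ⟨r, hr, hrp, hmod⟩ :=
    Nat.forall_exists_prime_gt_and_modEq (2 ^ t * M) (q := 2 ^ (t + 1) * M ^ 2) (a := r0)
      (by positivity) hcop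
  have e1 : r ≡ 2 ^ t - 1 [MOD 2 ^ (t + 1)] := (hmod.of_mul_right _).trans h1
  have e2 : r ≡ 1 + M [MOD M ^ 2] := (hmod.of_mul_left _).trans h2
  have hr1 : 2 ^ t - 1 ≤ r := by nlinarith [Nat.sub_le (2 ^ t) 1]
  have hr2 : 1 + M ≤ r := by nlinarith
  obtain ⟨i, hi⟩ := (Nat.modEq_iff_dvd' hr1).1 e1.symm
  obtain ⟨j, hj⟩ := (Nat.modEq_iff_dvd' hr2).1 e2.symm
  have hB : r + 1 = 2 ^ t * (1 + 2 * i) := by
    rw [mul_add, mul_one, ← mul_assoc, ← pow_succ, ← hi]; omega
  have hA : r - 1 = M * (1 + M * j) := by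
    rw [mul_add, mul_one, ← mul_assoc, ← sq, ← hj]; omega
  obtain ⟨s, rfl⟩ := Nat.exists_eq_add_of_le ht
  have h4 : r + 1 = 4 * (2 ^ s * (1 + 2 * i)) := by rw [hB, pow_add]; ring
  obtain ⟨A, hA'⟩ : 2 ∣ 1 + M * j := by
    refine (Nat.Coprime.dvd_mul_left (Nat.coprime_two_left.2 hM)).1 ?_
    rw [← hA]; omega
  refine ⟨r, A, 1 + 2 * i, hrp, hr, by rw [hA, hA']; ring, hB, Nat.Coprime.mul_right ?_ ?_,
    Nat.Coprime.mul_right ?_ ?_⟩
  · refine Nat.coprime_two_right.2 (Nat.not_even_iff_odd.1 ?_)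
    rintro ⟨a, rfl⟩
    have : r - 1 = 4 * (M * a) := by rw [hA, hA']; ring
    omega
  · refine Nat.Coprime.coprime_dvd_left (show A ∣ 1 + M * j from hA'.symm ▸ dvd_mul_left A 2) ?_
    simp
  · simp
  · have hg : Nat.Coprime (r + 1) M := by
      have : r + 1 = 2 + M * (1 + M * j) := by omega
      rw [this, Nat.coprime_add_mul_left_left]
      exact Nat.coprime_two_left.2 hM
    exact hg.coprime_dvd_left ⟨2 ^ (2 + s), by rw [hB, mul_comm]⟩

/-- A Hall divisor `n * c` of `|L × C|` gives a subgroup of order `n` in `L`. -/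
theorem exists_card_of_prod {L C : Type*} [Group L] [Group C] [Finite L] [Finite C] {n K : ℕ}
    (hL : Nat.card L = n * K) (hK : K.Coprime (n * Nat.card C))
    {H : Subgroup (L × C)} (hH : Nat.card H = n * Nat.card C) :
    ∃ H' : Subgroup L, Nat.card H' = n := by
  refine ⟨H.map (MonoidHom.fst L C), ?_⟩
  let f : H →* L := (MonoidHom.fst L C).comp H.subtype
  have hr : f.range = H.map (MonoidHom.fst L C) := by
    rw [MonoidHom.range_comp, H.range_subtype]
  have hker : Nat.card f.ker ∣ Nat.card C := by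
    refine Subgroup.card_dvd_of_injective ((MonoidHom.snd L C).comp (H.subtype.comp f.ker.subtype)) ?_
    intro a b hab
    apply Subtype.ext
    apply Subtype.ext
    exact Prod.ext ((a.2 : _ = (1 : L)).trans (b.2 : _ = (1 : L)).symm) hab
  have hprod : Nat.card f.range * Nat.card f.ker = n * Nat.card C := by
    rw [← hH, ← Nat.card_congr (QuotientGroup.quotientKerEquivRange f).toEquiv, ← Subgroup.index]
    exact f.ker.index_mul_card
  have hd : Nat.card f.range ∣ n := by
    have h1 : Nat.card f.range ∣ n * Nat.card C := hprod ▸ dvd_mul_right _ _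
    have h2 : Nat.card f.range ∣ n * K := hL ▸ f.range.card_subgroup_dvd_card
    exact (hK.symm.coprime_dvd_left h1).dvd_of_dvd_mul_right h2
  rw [← hr]
  obtain ⟨a, ha⟩ := hd
  obtain ⟨b, hb⟩ := hker
  have hp : 0 < Nat.card f.range * Nat.card f.ker := Nat.mul_pos Nat.card_pos Nat.card_pos
  have : a * b = 1 := by
    refine Nat.eq_of_mul_eq_mul_left hp ?_
    conv_rhs => rw [mul_one, hprod, ha, hb]
    ring
  rw [ha, Nat.eq_one_of_mul_eq_one_right this, mul_one]

/-- The counterexamples. -/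
theorem exists_no_hall {m : ℕ} (hm : 2 ≤ m) (h1 : ¬ IsPrimePow m) (h2 : m % 4 ≠ 2)
    (h12 : m ≠ 12) (h24 : m ≠ 24) (h60 : m ≠ 60) :
    ∃ (G : Type) (_ : Group G) (_ : Finite G), m ∣ Nat.card G ∧ m.Coprime (Nat.card G / m) ∧
      ∀ H : Subgroup G, Nat.card H ≠ m := by
  rcases Nat.even_or_odd m with he | ho
  · -- 4 ∣ m
    obtain ⟨a, M, hMo, rfl⟩ := Nat.exists_eq_two_pow_mul_odd (show m ≠ 0 by omega)
    have ha : 2 ≤ a := by
      rcases a with _ | _ | a
      · simp only [pow_zero, one_mul] at he; exact absurd hMo (Nat.not_odd_iff_even.2 he)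
      · exfalso; rcases hMo with ⟨s, rfl⟩; omega
      · omega
    have hM1 : M ≠ 1 := by
      rintro rfl
      exact h1 (by rw [mul_one]; exact Nat.prime_two.isPrimePow.pow (by omega))
    -- the 2-part `2 ^ t` of the order of `L`
    obtain ⟨t, ht, hta, hn12, hn24, hn60⟩ : ∃ t, 2 ≤ t ∧ t ≤ a ∧
        2 ^ t * M ≠ 12 ∧ 2 ^ t * M ≠ 24 ∧ 2 ^ t * M ≠ 60 := by
      rcases hMo with ⟨s, rfl⟩
      by_cases h3 : s = 1
      · subst h3
        refine ⟨4, by norm_num, ?_, by norm_num, by norm_num, by norm_num⟩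
        rcases a with _ | _ | _ | _ | a <;> simp_all
      by_cases h15 : s = 7
      · subst h15
        refine ⟨3, by norm_num, ?_, by norm_num, by norm_num, by norm_num⟩
        rcases a with _ | _ | _ | a <;> simp_all
      exact ⟨2, le_rfl, ha, by omega, by omega, by omega⟩
    obtain ⟨r, A, B, hrp, hlt, hA, hB, hAc, hBc⟩ := exists_prime_even ht hMo
    have : Fact r.Prime := ⟨hrp⟩
    have h4 : 4 ≤ 2 ^ t := le_trans (by norm_num) (Nat.pow_le_pow_right two_pos ht)
    have hr2 : r ≠ 2 := by have := hMo.pos; nlinarith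
    have hL : Nat.card (Matrix.ProjectiveSpecialLinearGroup (Fin 2) (ZMod r)) = 2 ^ t * M * (r * A * B) := by
      refine Nat.eq_of_mul_eq_mul_left two_pos ?_
      rw [two_mul_card_psl_prime r hr2, hA, hB]; ring
    have hK : (r * A * B).Coprime (2 * M) := by
      refine Nat.Coprime.mul_left (Nat.Coprime.mul_left ?_ hAc) hBc
      have hlt2 : 2 * M < r := by
        have := hMo.pos
        nlinarith
      have hne : 2 * M ≠ 0 := by have := hMo.pos; omega
      exact Nat.coprime_of_lt_prime (n := 2 * M) hne hlt2 hrp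
    have : NeZero (2 ^ (a - t)) := ⟨by positivity⟩
    have hC : Nat.card (Multiplicative (ZMod (2 ^ (a - t)))) = 2 ^ (a - t) := Nat.card_zmod _
    have hm' : 2 ^ t * M * 2 ^ (a - t) = 2 ^ a * M := by
      rw [mul_right_comm, ← pow_add, Nat.add_sub_cancel' hta]
    have hcard : Nat.card (Matrix.ProjectiveSpecialLinearGroup (Fin 2) (ZMod r) ×
        Multiplicative (ZMod (2 ^ (a - t)))) = 2 ^ a * M * (r * A * B) := by
      rw [Nat.card_prod, hL, hC, ← hm']; ring
    have hKm : (r * A * B).Coprime (2 ^ a * M) :=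
      Nat.Coprime.mul_right ((Nat.Coprime.coprime_mul_right_right hK).pow_right a)
        (Nat.Coprime.coprime_mul_left_right hK)
    refine ⟨_, inferInstance, inferInstance, hcard ▸ dvd_mul_right _ _, ?_, ?_⟩
    · rw [hcard, Nat.mul_div_cancel_left _ (by omega)]
      exact hKm.symm
    intro H hH
    obtain ⟨H', hH'⟩ := exists_card_of_prod hL (by rwa [hC, hm']) (by rwa [hC, hm'])
    have hr' : r % 2 = 1 := Nat.odd_iff.1 (hrp.odd_of_ne_two hr2)
    rcases psl_prime_subgroup_card r hr2 H' with hb | ⟨k, hk, hk'⟩ | h | h | h | h <;>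
      try rw [hH'] at *
    · -- point stabilisers have odd order
      have hodd : Odd (r * (M * A)) :=
        (hrp.odd_of_ne_two hr2).mul (hMo.mul (Nat.coprime_two_right.1 hAc.coprime_mul_right_right))
      rw [hA, show r * (2 * (M * A)) = 2 * (r * (M * A)) by ring] at hb
      have := (Nat.dvd_of_mul_dvd_mul_left two_pos hb)
      exact Nat.not_even_iff_odd.2 hodd
        (even_iff_two_dvd.2 (((dvd_pow_self 2 (by omega)).mul_right M).trans this))
    · -- torus normalisers
      have hkey : ∀ k, 2 ^ (t - 1) * M ∣ k → ¬ (2 * k ∣ r + 1 ∨ 2 * k ∣ r - 1) := by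
        intro k hk1 hk2
        rcases hk2 with hk2 | hk2
        · -- `M ∤ r + 1`
          rw [hB] at hk2
          have h3 : M ∣ 2 ^ t * B := ((Dvd.intro_left _ rfl).trans hk1).trans ((dvd_mul_left _ _).trans hk2)
          have h5 : M ∣ 2 ^ t := (hBc.coprime_mul_left_right.symm).dvd_of_dvd_mul_right h3
          exact hM1 (Nat.eq_one_of_dvd_coprimes (Nat.Coprime.pow_left t (Nat.coprime_two_left.2 hMo))
            h5 dvd_rfl)
        · -- `4 ∤ r - 1`
          rw [hA] at hk2
          have h3 : 2 ∣ M * A :=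
            (((dvd_pow_self 2 (by omega)).mul_right M).trans hk1).trans
              (Nat.dvd_of_mul_dvd_mul_left two_pos hk2)
          exact Nat.not_even_iff_odd.2 (hMo.mul (Nat.coprime_two_right.1 hAc.coprime_mul_right_right))
            (even_iff_two_dvd.2 h3)
      have hp : 2 ^ t * M = 2 * (2 ^ (t - 1) * M) := by
        rw [← mul_assoc, ← pow_succ', Nat.sub_add_cancel (by omega)]
      rcases hk' with h | h
      · exact hkey k ⟨2, by rw [← h, hp, mul_comm]⟩ hk
      · exact hkey k (by rw [Nat.eq_of_mul_eq_mul_left two_pos (hp.symm.trans h)]) hk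
    · exact hn12 h
    · exact hn24 h
    · exact hn60 h
    · rw [hL] at h
      have : r * A * B = 1 := (Nat.mul_eq_left (by have := hMo.pos; positivity)).1 h.symm
      have := Nat.eq_one_of_mul_eq_one_right (Nat.eq_one_of_mul_eq_one_right this)
      exact hrp.one_lt.ne' this
  · -- odd `m`
    obtain ⟨u, v, hu, hv, huv, rfl⟩ : ∃ u v, 1 < u ∧ 1 < v ∧ u.Coprime v ∧ u * v = m := by
      obtain ⟨p, hp, hpm⟩ := Nat.exists_prime_and_dvd (show m ≠ 1 by omega)
      obtain ⟨e, v, hv, rfl⟩ := Nat.exists_eq_pow_mul_and_not_dvd (show m ≠ 0 by omega) p hp.ne_one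
      have he : e ≠ 0 := by rintro rfl; exact hv (by simpa using hpm)
      refine ⟨p ^ e, v, Nat.one_lt_pow he hp.one_lt, ?_, ?_, rfl⟩
      · rcases v with _ | _ | v
        · exact absurd (dvd_zero p) hv
        · exact absurd (by simpa using hp.isPrimePow.pow he) h1
        · omega
      · exact ((hp.coprime_iff_not_dvd).2 hv).pow_left e
    have huo : Odd u := ho.of_dvd_nat (dvd_mul_right _ _)
    have hvo : Odd v := ho.of_dvd_nat (dvd_mul_left _ _)
    obtain ⟨r, A, B, hrp, hlt, hA, hB, hAc, hBc⟩ := exists_prime_odd hu hv huv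
    have : Fact r.Prime := ⟨hrp⟩
    have hr2 : r ≠ 2 := by nlinarith
    have hL2 : 2 * Nat.card (Matrix.ProjectiveSpecialLinearGroup (Fin 2) (ZMod r)) =
        u * v * (r * A * B) := by
      rw [two_mul_card_psl_prime r hr2, hA, hB]; ring
    have hdvd : u * v ∣ Nat.card (Matrix.ProjectiveSpecialLinearGroup (Fin 2) (ZMod r)) :=
      (Nat.coprime_two_right.2 ho).dvd_of_dvd_mul_left (hL2 ▸ dvd_mul_right _ _)
    obtain ⟨K, hK⟩ := hdvd
    have hK2 : r * A * B = 2 * K := by
      refine Nat.eq_of_mul_eq_mul_left (show 0 < u * v by positivity) ?_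
      rw [← hL2, hK]; ring
    have hAv : Nat.Coprime A v := by
      have h : Nat.Coprime (r - 1) v := by
        have e : v * B = 2 + (r - 1) := by omega
        refine Nat.coprime_of_dvd' fun l hl hl1 hl2 => ?_
        have : l ∣ 2 + (r - 1) := e ▸ hl2.mul_right B
        have h2' := (Nat.dvd_add_left hl1).1 this
        exact absurd ((Nat.prime_dvd_prime_iff_eq hl Nat.prime_two).1 h2' ▸ hl2)
          (by rw [← even_iff_two_dvd]; exact Nat.not_even_iff_odd.2 hvo)
      exact h.coprime_dvd_left ⟨u, by rw [hA, mul_comm]⟩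
    have hrc : Nat.Coprime r (u * v) :=
      Nat.coprime_of_lt_prime (by positivity) hlt hrp
    have hBu : Nat.Coprime B u := by
      have h : Nat.Coprime (r + 1) u := by
        have e : r + 1 = 2 + u * A := by omega
        rw [e, Nat.coprime_add_mul_left_left]
        exact Nat.coprime_two_left.2 huo
      exact h.coprime_dvd_left ⟨v, by rw [hB, mul_comm]⟩
    have hKc : K.Coprime (u * v) := by
      refine Nat.Coprime.coprime_dvd_left ⟨2, hK2.trans (mul_comm _ _)⟩ ?_
      exact (hrc.mul_left (hAc.mul_right hAv)).mul_left (hBu.mul_right hBc)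
    refine ⟨_, inferInstance, inferInstance, hK ▸ dvd_mul_right _ _, ?_, ?_⟩
    · rw [hK, Nat.mul_div_cancel_left _ (by positivity)]
      exact hKc.symm
    intro H hH
    have hne : ∀ d, Even d → Nat.card H ≠ d := by
      intro d hd e; rw [hH] at e; exact Nat.not_even_iff_odd.2 ho (e ▸ hd)
    have hvA : ¬ v ∣ r * (r - 1) := by
      rw [hA]
      intro h
      have hvu : v.Coprime (r * (u * A)) :=
        (hrc.coprime_mul_left_right.symm).mul_right (huv.symm.mul_right hAv.symm)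
      exact hv.ne' (Nat.eq_one_of_dvd_coprimes hvu dvd_rfl h)
    rcases psl_prime_subgroup_card r hr2 H with hb | ⟨k, hk, hk'⟩ | h | h | h | h
    · rw [hH] at hb
      exact hvA (((dvd_mul_left _ _).trans (dvd_mul_left _ 2)).trans hb)
    · rcases hk' with h | h
      · rw [hH] at h
        subst h
        rcases hk with hk | hk
        · have : u ∣ r + 1 := ((dvd_mul_right u v).trans (dvd_mul_left _ 2)).trans hk
          rw [hB] at this
          exact hu.ne' (Nat.eq_one_of_dvd_coprimes (huv.mul_right hBu.symm) dvd_rfl this)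
        · exact hvA ((((dvd_mul_left v u).trans (dvd_mul_left _ 2)).trans hk).trans (dvd_mul_left _ _))
      · exact hne _ (even_two_mul k) h
    · exact hne 12 (by norm_num) h
    · exact hne 24 (by norm_num) h
    · exact hne 60 (by norm_num) h
    · rw [hH, hK] at h
      have hK1 : K = 1 := (Nat.mul_eq_left (by positivity)).1 h.symm
      rw [hK1, mul_one] at hK2
      have hrd : r ∣ 2 := ⟨A * B, by rw [← hK2]; ring⟩
      exact hr2 ((Nat.prime_dvd_prime_iff_eq hrp Nat.prime_two).1 hrd)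

end CfsgLib.HallNumbers
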