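import Mathlib
import Cfsg.Agent.Lib.HallNumbers.Forward
import Cfsg.Agent.Lib.GWCons.RankOneCover
import Cfsg.Agent.Lib.PSL2.Icosahedral

/-!
Subgroups of order 60 when 60 is a Hall divisor of the order, from the classification of perfect
groups with dihedral Sylow 2-subgroups.
-/

set_option autoImplicit false
set_option linter.style.haveILetI false

open Subgroup
open scoped Pointwise commutatorElement

namespace CfsgLib.HallNumbers

universe u

variable {G : Type u} [Group G] [Finite G]

theorem exists_perfect_residual :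
    ∃ (K : Subgroup G) (_ : K.Normal), Group.IsSolvable (G ⧸ K) ∧ ⁅K, K⁆ = K := by
  have hex : ∃ n, derivedSeries G (n + 1) = derivedSeries G n := by
    by_contra h
    push Not at h
    have hlt : ∀ n, Nat.card (derivedSeries G n) + n ≤ Nat.card G := by
      intro n
      induction n with
      | zero => simp [derivedSeries_zero]
      | succ n ih =>
        have hle : derivedSeries G (n + 1) ≤ derivedSeries G n :=
          derivedSeries_antitone G (Nat.le_succ n)
        have := lt_of_le_of_ne (card_le_of_le hle)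
          fun e => h n (eq_of_le_of_card_ge hle e.ge)
        omega
    have := hlt (Nat.card G + 1)
    omega
  obtain ⟨n, hn⟩ := hex
  refine ⟨derivedSeries G n, derivedSeries_normal G n, ?_, by rw [← derivedSeries_succ]; exact hn⟩
  haveI := derivedSeries_normal G n
  refine ⟨⟨n, ?_⟩⟩
  rw [← map_derivedSeries_eq (f := QuotientGroup.mk' (derivedSeries G n))
    (QuotientGroup.mk'_surjective _) n, ← le_bot_iff, map_le_iff_le_comap, MonoidHom.comap_bot,
    QuotientGroup.ker_mk']

theorem solvable_sup (A B : Subgroup G) [A.Normal] [Group.IsSolvable A] [Group.IsSolvable B] :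
    Group.IsSolvable ↥(A ⊔ B) := by
  set π := (QuotientGroup.mk' A).subgroupMap (A ⊔ B)
  haveI : Group.IsSolvable ↥((A ⊔ B).map (QuotientGroup.mk' A)) := by
    rw [Subgroup.map_sup, QuotientGroup.map_mk'_self, bot_sup_eq]
    exact solvable_of_surjective (MonoidHom.subgroupMap_surjective (QuotientGroup.mk' A) B)
  refine solvable_of_ker_le_range (Subgroup.inclusion (le_sup_left : A ≤ A ⊔ B)) π ?_
  intro x hx
  have : QuotientGroup.mk' A (x : G) = 1 := congrArg Subtype.val (MonoidHom.mem_ker.1 hx)
  exact ⟨⟨x, (QuotientGroup.eq_one_iff _).1 this⟩, rfl⟩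

/-- A Klein four-group is dihedral. -/
theorem nonempty_equiv_dihedral_two {T : Type u} [Group T] (h4 : Nat.card T = 4) (hnc : ¬ IsCyclic T) :
    Nonempty (T ≃* DihedralGroup 2) := by
  haveI : IsKleinFour T :=
    ⟨h4, (not_isCyclic_iff_exponent_eq_prime Nat.prime_two (by rw [h4]; norm_num)).1 hnc⟩
  exact IsKleinFour.nonempty_mulEquiv

theorem sixty (hGW : CfsgLib.GWCons.RankOneCover.DihedralClassification.{u}) (hd : 60 ∣ Nat.card G)
    (hc : Nat.Coprime 60 (Nat.card G / 60)) : ∃ H : Subgroup G, Nat.card H = 60 := by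
  haveI : Fact (Nat.Prime 2) := ⟨Nat.prime_two⟩
  haveI : Fact (Nat.Prime 5) := ⟨Nat.prime_five⟩
  by_cases hn : Cfsg.HasNormalPComplement 2 G
  · haveI := solvable_of_npc hn
    exact exists_card_of_isSolvable hd hc
  have h8 : ¬ 2 ^ (2 + 1) ∣ Nat.card G :=
    not_two_mul_dvd hd hc Nat.prime_two (by norm_num) (by norm_num)
  have h9 : ¬ 3 ^ 2 ∣ Nat.card G :=
    not_two_mul_dvd hd hc Nat.prime_three (by norm_num) (by norm_num)
  have h25 : ¬ 5 ^ 2 ∣ Nat.card G :=
    not_two_mul_dvd hd hc Nat.prime_five (by norm_num) (by norm_num)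
  have finish : ∀ X : Subgroup G, Group.IsSolvable X → 4 ∣ Nat.card X → 3 ∣ Nat.card X →
      5 ∣ Nat.card X → ∃ H : Subgroup G, Nat.card H = 60 := by
    intro X hX h4 h3 h5
    haveI := hX
    refine exists_card_of_solvable hd hc X ?_
    rw [show 60 = 4 * 3 * 5 from rfl]
    exact Nat.Coprime.mul_dvd_of_dvd_of_dvd (by norm_num)
      (Nat.Coprime.mul_dvd_of_dvd_of_dvd (by norm_num) h4 h3) h5
  obtain ⟨K, hKn, hKq, hKp⟩ := exists_perfect_residual (G := G)
  haveI := hKn
  haveI hPK : Group.IsPerfect K := Group.isPerfect_def.2 (by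
    apply map_injective K.subtype_injective
    rw [← MonoidHom.range_eq_map, range_subtype]
    rw [map_subtype_commutator]
    exact hKp)
  by_cases hKs : Group.IsSolvable K
  · haveI : Group.IsSolvable G := solvable_of_ker_le_range K.subtype (QuotientGroup.mk' K)
      (by rw [QuotientGroup.ker_mk', range_subtype])
    exact exists_card_of_isSolvable hd hc
  obtain ⟨T⟩ : Nonempty (Sylow 2 K) := inferInstance
  have hT4 : Nat.card (T : Subgroup K) = 4 := by
    have h4 : 4 ∣ Nat.card K := by
      by_contra h; exact hKs (solvable_of_not_four_dvd h)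
    obtain ⟨k, hk⟩ := T.2.exists_card_eq
    have h1 : 2 ^ 2 ∣ Nat.card (T : Subgroup K) := by
      rw [T.card_eq_multiplicity]
      exact pow_dvd_pow 2 ((Nat.prime_two.pow_dvd_iff_le_factorization Nat.card_pos.ne').1 h4)
    rw [hk] at h1 ⊢
    have h2 : k ≤ 2 := by
      by_contra hlt
      exact h8 (((pow_dvd_pow 2 (by omega)).trans (hk ▸ card_subgroup_dvd_card (T : Subgroup K))).trans
        (card_subgroup_dvd_card K))
    have h3 := (Nat.pow_dvd_pow_iff_le_right (x := 2) (by norm_num)).1 h1
    rw [show k = 2 by omega]; rfl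
  have hTd : Nonempty ((T : Subgroup K) ≃* DihedralGroup 2) := by
    refine nonempty_equiv_dihedral_two hT4 fun hcyc => hKs ?_
    haveI := hcyc
    refine solvable_of_npc (CfsgLib.Transfer.hasNormalPComplement_of_normalizer_le T
      (hcyc.normalizer_le_centralizer ?_))
    exact (Nat.minFac_eq_two_iff _).2 ((show 2 ∣ Nat.card (T : Subgroup K) by rw [hT4]; norm_num).trans
      (card_subgroup_dvd_card _))
  set V := (T : Subgroup K).map K.subtype with hV
  have hV4 : Nat.card V = 4 := by rw [hV, card_subtype, hT4]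
  have hV2 : IsPGroup 2 V := IsPGroup.of_card (n := 2) (by rw [hV4]; norm_num)
  obtain ⟨S, hS⟩ : ∃ S : Sylow 2 G, (S : Subgroup G) = V := by
    obtain ⟨S, hS⟩ := hV2.exists_le_sylow
    obtain ⟨k, hk⟩ := S.2.exists_card_eq
    have hk2 : k ≤ 2 := by
      by_contra hlt
      exact h8 ((pow_dvd_pow 2 (by omega)).trans (hk ▸ card_subgroup_dvd_card (S : Subgroup G)))
    refine ⟨S, (eq_of_le_of_card_ge hS ?_).symm⟩
    rw [hk, hV4]
    exact (Nat.pow_le_pow_right two_pos hk2).trans (by norm_num)
  set N := normalizer (V : Set G)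
  have hNs : Group.IsSolvable N := solvable_normalizer h8 hV2 (by rw [hV4]; norm_num)
  have hN4 : 4 ∣ Nat.card N := hV4 ▸ card_dvd_of_le le_normalizer
  have hN3 : 3 ∣ Nat.card N := by
    rcases fusion_cases (a := 2) (by norm_num) h8 hn with ⟨U, hU, h4, h3⟩ | ⟨U, ha, -⟩
    · obtain ⟨S', hS'⟩ := hU.exists_le_sylow
      obtain ⟨g, hg⟩ := MulAction.exists_smul_eq G S' S
      have hS'4 : Nat.card (S' : Subgroup G) = 4 := by
        rw [S'.card_eq_multiplicity, ← S.card_eq_multiplicity, hS, hV4]
      have hUS : U = (S' : Subgroup G) :=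
        eq_of_le_of_card_ge hS' (by rw [hS'4]; exact Nat.le_of_dvd Nat.card_pos h4)
      have hgV : MulAut.conj g • U = V := by
        rw [hUS, ← Sylow.coe_subgroup_smul, hg, hS]
      have : (normalizer (U : Set G)).map (MulAut.conj g).toMonoidHom = N := by
        rw [map_equiv_normalizer_eq]
        congr 1
        exact congrArg SetLike.coe hgV
      rwa [← this, card_map_of_injective (MulAut.conj g).injective]
    · omega
  by_cases hN5 : 5 ∣ Nat.card N
  · exact finish N hNs hN4 hN3 hN5
  have hsup : N ⊔ K = ⊤ := Sylow.normalizer_sup_eq_top T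
  have hK5 : 5 ∣ Nat.card K := by
    have h1 : K.index ∣ Nat.card N := by
      have : Function.Surjective ((QuotientGroup.mk' K).comp N.subtype) := by
        rw [← MonoidHom.range_eq_top, MonoidHom.range_comp, range_subtype]
        rw [← map_top_of_surjective (QuotientGroup.mk' K) (QuotientGroup.mk'_surjective K), ← hsup,
          Subgroup.map_sup, QuotientGroup.map_mk'_self, sup_bot_eq]
      rw [index_eq_card]
      exact Subgroup.card_dvd_of_surjective _ this
    have h2 : 5 ∣ Nat.card K * K.index := by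
      rw [K.card_mul_index]; exact dvd_trans (by norm_num) hd
    rcases Nat.prime_five.dvd_mul.1 h2 with h | h
    · exact h
    · exact absurd (h.trans h1) hN5
  set O := Cfsg.oddCore ↥K with hO
  have hOodd : ¬ 2 ∣ Nat.card O := CfsgLib.PCore.not_dvd_card_pPrimeCore
  haveI : Group.IsSolvable O := solvable_odd (Nat.not_even_iff_odd.1 fun e => hOodd e.two_dvd)
  by_cases hO5 : 5 ∣ Nat.card O
  · set O' := O.map K.subtype
    have hO'n : O'.Normal := by
      haveI : O.Characteristic := CfsgLib.PCore.pPrimeCore_characteristic_inst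
      exact ConjAct.normal_of_characteristic_of_normal
    haveI : Group.IsSolvable O' := solvable_of_surjective (f := (O.equivMapOfInjective K.subtype
      K.subtype_injective).toMonoidHom) (MulEquiv.surjective _)
    refine finish (O' ⊔ N) ?_ (hN4.trans (card_dvd_of_le le_sup_right))
      (hN3.trans (card_dvd_of_le le_sup_right)) ((hO5.trans (by rw [card_subtype])).trans
        (card_dvd_of_le le_sup_left))
    haveI := hNs
    exact solvable_sup O' N
  set Q := K ⧸ O
  have hcardQ := card_eq_card_quotient_mul_card_subgroup O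
  have h5Q : 5 ∣ Nat.card Q :=
    (Nat.prime_five.coprime_iff_not_dvd.2 hO5).dvd_of_dvd_mul_right (hK5.trans hcardQ.dvd)
  rcases hGW K T 2 le_rfl hTd with ⟨F, _, _, -, -, ⟨ψ⟩⟩ | ⟨⟨ψ⟩⟩
  · obtain ⟨r, hr⟩ := CfsgLib.PSL2.exists_root_of_five
      (h5Q.trans (Nat.card_congr ψ.toEquiv).dvd)
    obtain ⟨f, hf⟩ := CfsgLib.PSL2.exists_alt_five_psl hr
    set π : K →* Matrix.ProjectiveSpecialLinearGroup (Fin 2) F :=
      ψ.toMonoidHom.comp (QuotientGroup.mk' O)
    set Y := f.range.comap π with hY
    have hπs : Function.Surjective π := ψ.surjective.comp (QuotientGroup.mk'_surjective O)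
    have hπk : π.ker = O := by
      ext x
      rw [MonoidHom.mem_ker, show π x = ψ (x : Q) from rfl, map_eq_one_iff ψ ψ.injective,
        QuotientGroup.eq_one_iff]
    have hA5 : Nat.card f.range = 60 := by
      rw [← Nat.card_congr (MonoidHom.ofInjective hf).toEquiv]
      rw [nat_card_alternatingGroup, Nat.card_fin]; rfl
    have hOY : O ≤ Y := fun x hx => by
      rw [hY, mem_comap, show π x = 1 by rwa [← MonoidHom.mem_ker, hπk]]; exact one_mem _
    set O₁ := O.subgroupOf Y
    haveI : O₁.Normal := by infer_instance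
    have hO₁ : Nat.card O₁ = Nat.card O := Nat.card_congr (subgroupOfEquivOfLe hOY).toEquiv
    let π₁ : Y →* f.range := π.subgroupComap f.range
    have hπ₁s : Function.Surjective π₁ := π.subgroupComap_surjective_of_surjective _ hπs
    have hπ₁k : π₁.ker = O₁ := by
      ext x
      rw [MonoidHom.mem_ker, mem_subgroupOf, ← hπk, MonoidHom.mem_ker]
      exact ⟨fun h => congrArg Subtype.val h, fun h => Subtype.ext h⟩
    have hidx : O₁.index = 60 := by
      rw [← hπ₁k, index_ker, MonoidHom.range_eq_top.2 hπ₁s, card_top, hA5]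
    have hY60 : Nat.card Y = Nat.card O * 60 := by rw [← O₁.card_mul_index, hO₁, hidx]
    have hcop : Nat.Coprime (Nat.card O₁) O₁.index := by
      rw [hidx, hO₁, show 60 = 2 ^ 2 * 3 * 5 from rfl]
      refine Nat.Coprime.mul_right (Nat.Coprime.mul_right ?_ ?_) ?_
      · exact Nat.Coprime.pow_right 2 ((Nat.prime_two.coprime_iff_not_dvd.2 hOodd).symm)
      · refine (Nat.prime_three.coprime_iff_not_dvd.2 fun h3 => h9 ?_).symm
        have : 3 ^ 2 ∣ Nat.card Y := by
          rw [hY60, pow_two]; exact Nat.mul_dvd_mul h3 (by norm_num)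
        exact this.trans ((card_subgroup_dvd_card Y).trans (card_subgroup_dvd_card K))
      · exact (Nat.prime_five.coprime_iff_not_dvd.2 hO5).symm
    obtain ⟨C, hC⟩ := exists_right_complement'_of_coprime hcop
    refine ⟨(C.map Y.subtype).map K.subtype, ?_⟩
    rw [card_subtype, card_subtype]
    have := hC.card_mul_card
    rw [hO₁, hY60] at this
    exact Nat.eq_of_mul_eq_mul_left Nat.card_pos this
  · exfalso
    refine h8 ?_
    have h7 : 2 ^ 3 ∣ Nat.card Q := by
      rw [Nat.card_congr ψ.toEquiv, nat_card_alternatingGroup]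
      simp [Nat.factorial]
    exact (h7.trans (card_quotient_dvd_card O)).trans (card_subgroup_dvd_card K)

end CfsgLib.HallNumbers
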