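import Mathlib
import Cfsg.Prelude.Def_Involutions
import Cfsg.Agent.Lib.HallNumbers.Forward
import Cfsg.Agent.Lib.InvChar.SolvableTwo
import Cfsg.Agent.Lib.PSL2.Basic
import Cfsg.Agent.S0217
import Cfsg.Agent.S1230

/-!
Subgroups of order 24 when 24 is a Hall divisor of the order, from the core theorem for strongly
embedded subgroups.
-/

set_option autoImplicit false
set_option linter.style.haveILetI false

open Subgroup
open CfsgLib.Transfer (pResidual_normal)

namespace CfsgLib.HallNumbers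

universe u

/-- The core theorem for strongly embedded subgroups, as a hypothesis. -/
def StronglyEmbeddedCores : Prop :=
  ∀ (X : Type u) [Group X] [Finite X] (H : Subgroup X), Cfsg.IsStronglyEmbedded H →
    (Cfsg.oddCore ↥H).map H.subtype ≤ Cfsg.oddCore X

variable {G : Type u} [Group G] [Finite G]

/-- The odd elements of `C(a)`. -/
def oddPart (a : G) : Subgroup G :=
  (Cfsg.pResidual 2 ↥(centralizer ({a} : Set G))).map (centralizer ({a} : Set G)).subtype

theorem twentyFour_core (hSE : StronglyEmbeddedCores.{u}) (h16 : ¬ 2 ^ (3 + 1) ∣ Nat.card G)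
    (h9 : ¬ 3 ^ 2 ∣ Nat.card G) (h3G : 3 ∣ Nat.card G) (hO : Cfsg.oddCore G = ⊥) (U : Subgroup G)
    (hU8 : Nat.card U = 8) (h3 : ¬ 3 ∣ Nat.card (normalizer (U : Set G))) (n : G)
    (hn : n ∈ normalizer (U : Set G))
    (htr : ∀ x ∈ U, ∀ y ∈ U, x ≠ 1 → y ≠ 1 → ∃ i : ℤ, n ^ i * x * (n ^ i)⁻¹ = y) : False := by
  haveI : Fact (Nat.Prime 2) := ⟨Nat.prime_two⟩
  classical
  -- `U` is elementary abelian and a Sylow subgroup
  obtain ⟨z, hz, hzU⟩ : ∃ z : G, orderOf z = 2 ∧ z ∈ U := by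
    obtain ⟨z, hz⟩ := exists_prime_orderOf_dvd_card' (G := U) 2 (by rw [hU8]; norm_num)
    exact ⟨z, by rw [← hz, Subgroup.orderOf_coe], z.2⟩
  have hsq : ∀ x ∈ U, x * x = 1 := by
    intro x hx
    by_cases hx1 : x = 1
    · rw [hx1, one_mul]
    obtain ⟨i, hi⟩ := htr z hzU x hx (fun e => by rw [e, orderOf_one] at hz; omega) hx1
    have hzz : z * z = 1 := by rw [← pow_two, ← hz, pow_orderOf_eq_one]
    rw [← hi, conj_mul, hzz, mul_one, mul_inv_cancel]
  have hcomm : ∀ x ∈ U, ∀ y ∈ U, x * y = y * x := by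
    intro x hx y hy
    have h1 := hsq _ (mul_mem hx hy)
    rw [mul_eq_one_iff_eq_inv, mul_inv_rev, inv_eq_of_mul_eq_one_right (hsq x hx),
      inv_eq_of_mul_eq_one_right (hsq y hy)] at h1
    exact h1
  have h2U : IsPGroup 2 U := IsPGroup.of_card (n := 3) (by rw [hU8]; norm_num)
  obtain ⟨T, hT⟩ : ∃ T : Sylow 2 G, (T : Subgroup G) = U := by
    obtain ⟨T, hT⟩ := h2U.exists_le_sylow
    obtain ⟨k, hk⟩ := T.2.exists_card_eq
    have hk3 : k ≤ 3 := by
      by_contra hlt
      exact h16 ((pow_dvd_pow 2 (by omega)).trans (hk ▸ card_subgroup_dvd_card (T : Subgroup G)))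
    refine ⟨T, (eq_of_le_of_card_ge hT ?_).symm⟩
    rw [hk, hU8]
    exact (Nat.pow_le_pow_right two_pos hk3).trans (by norm_num)
  set N := normalizer (U : Set G)
  -- the automizer has odd order and no element of order three
  have hfix : ∀ t ∈ U, t ≠ 1 → ∀ g ∈ N, g * t = t * g → ∀ x ∈ U, g * x = x * g := by
    intro t ht ht1 g hg hgt
    set φ := U.normalizerMonoidHom with hφ
    suffices φ ⟨g, hg⟩ = 1 by
      intro x hx
      have h1 := congrArg Subtype.val (DFunLike.congr_fun this ⟨x, hx⟩)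
      exact mul_inv_eq_iff_eq_mul.1 h1
    by_contra hne
    set d := orderOf (φ ⟨g, hg⟩)
    obtain ⟨r, hr, hrd⟩ := Nat.exists_prime_and_dvd (show d ≠ 1 by rwa [Ne, orderOf_eq_one_iff])
    have hr2 : r ≠ 2 := by
      rintro rfl
      have h1 : 2 ∣ φ.ker.index := by
        rw [Subgroup.index_ker]
        refine hrd.trans ?_
        have hm : φ ⟨g, hg⟩ ∈ φ.range := ⟨_, rfl⟩
        exact φ.range.orderOf_dvd_natCard hm
      have h2 : U.subgroupOf N ≤ φ.ker := by
        rw [hφ, normalizerMonoidHom_ker]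
        intro x hx
        rw [mem_subgroupOf] at hx ⊢
        rw [mem_centralizer_iff]
        exact fun y hy => hcomm y hy _ hx
      refine h16 ?_
      have h3 : 2 * 8 ∣ Nat.card N := by
        rw [← hU8, ← Nat.card_congr (subgroupOfEquivOfLe (le_normalizer (H := U))).toEquiv,
          ← (U.subgroupOf N).card_mul_index, mul_comm]
        exact Nat.mul_dvd_mul_left _ (h1.trans (index_dvd_of_le h2))
      exact h3.trans (card_subgroup_dvd_card N)
    haveI : Fact r.Prime := ⟨hr⟩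
    set ψ := φ ⟨g, hg⟩ ^ (d / r)
    have hdpos : 0 < d := orderOf_pos _
    have hψ : orderOf ψ = r := by
      rw [orderOf_pow_of_dvd (Nat.div_pos (Nat.le_of_dvd hdpos hrd) hr.pos).ne'
        (Nat.div_dvd_of_dvd hrd), Nat.div_div_self hrd hdpos.ne']
    have hr3 : r ≠ 3 := fun e => h3 (e ▸ hrd.trans ((orderOf_map_dvd φ _).trans (orderOf_dvd_natCard _)))
    obtain ⟨K, hK, hKne, hmod⟩ := exists_fixed hr hψ
    have htK : (⟨t, ht⟩ : U) ∈ K := by
      rw [hK]
      have hgen : φ ⟨g, hg⟩ ∈ MulAction.stabilizer (MulAut U) (⟨t, ht⟩ : U) :=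
        Subtype.ext (show g * t * g⁻¹ = t by rw [hgt, mul_inv_cancel_right])
      exact pow_mem hgen _
    have hK1 : Nat.card K ≠ 1 := fun e => by
      rw [eq_bot_of_card_eq _ e, mem_bot] at htK
      exact ht1 (congrArg Subtype.val htK)
    obtain ⟨c, hc, hKc⟩ := (Nat.dvd_prime_pow Nat.prime_two).1
      (show Nat.card K ∣ 2 ^ 3 by rw [show (2 : ℕ) ^ 3 = 8 from rfl, ← hU8]; exact card_subgroup_dvd_card K)
    have hc3 : c ≠ 3 := fun e => hKne (eq_top_of_card_eq _ (by rw [hKc, e, hU8]; norm_num))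
    rw [hU8, hKc] at hmod
    have hc0 : c ≠ 0 := fun e => hK1 (by rw [hKc, e, pow_zero])
    have hc' : c ≤ 2 := by omega
    have hrd' : r ∣ 8 - 2 ^ c :=
      (Nat.modEq_iff_dvd' ((Nat.pow_le_pow_right two_pos hc').trans (by norm_num))).1 hmod.symm
    have hle := Nat.le_of_dvd (Nat.sub_pos_of_lt
      ((Nat.pow_le_pow_right two_pos hc').trans_lt (by norm_num))) hrd'
    have := hr.two_le
    interval_cases c <;> norm_num at hle hrd' <;> interval_cases r <;> first | omega | norm_num at hr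
  -- centralizers of involutions of `U`
  have hUC : ∀ a ∈ U, U ≤ centralizer ({a} : Set G) := fun a ha x hx =>
    mem_centralizer_singleton_iff.2 (hcomm x hx a ha)
  have hnpc : ∀ a ∈ U, a ≠ 1 →
      Cfsg.HasNormalPComplement 2 ↥(centralizer ({a} : Set G)) := by
    intro a ha ha1
    let P : Sylow 2 ↥(centralizer ({a} : Set G)) := T.subtype (hT.le.trans (hUC a ha))
    have hPU : ∀ x : ↥(centralizer ({a} : Set G)), x ∈ (P : Subgroup _) ↔ (x : G) ∈ U := fun x => by
      rw [Sylow.coe_subtype, mem_subgroupOf, hT]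
    refine CfsgLib.Transfer.hasNormalPComplement_of_normalizer_le P fun g hg => ?_
    have hgN : (g : G) ∈ N := by
      rw [mem_normalizer_iff]
      intro x
      constructor
      · intro hx
        have := ((mem_normalizer_iff.1 hg) ⟨x, hUC a ha hx⟩).1 ((hPU _).2 hx)
        exact (hPU _).1 this
      · intro hx
        have hxc : x ∈ centralizer ({a} : Set G) := by
          have := mul_mem (mul_mem (inv_mem g.2) (hUC a ha hx)) g.2
          simpa [mul_assoc] using this
        exact (hPU ⟨x, hxc⟩).1 (((mem_normalizer_iff.1 hg) ⟨x, hxc⟩).2 ((hPU _).2 hx))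
    rw [mem_centralizer_iff]
    intro x hx
    exact Subtype.ext (hfix a ha ha1 g hgN (mem_centralizer_singleton_iff.1 g.2) x ((hPU x).1 hx)).symm
  have hodd : ∀ a ∈ U, a ≠ 1 → ¬ 2 ∣ Nat.card (oddPart a) := fun a ha ha1 => by
    rw [oddPart, card_subtype]
    exact CfsgLib.Transfer.hasNormalPComplement_iff.1 (hnpc a ha ha1)
  have hmem : ∀ a ∈ U, a ≠ 1 → ∀ x, x ∈ oddPart a ↔ x * a = a * x ∧ Odd (orderOf x) := by
    intro a ha ha1 x
    constructor
    · intro hx
      obtain ⟨y, hy, rfl⟩ := hx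
      refine ⟨mem_centralizer_singleton_iff.1 y.2, Nat.not_even_iff_odd.1 fun e => ?_⟩
      exact hodd a ha ha1 (e.two_dvd.trans
        (orderOf_dvd_natCard (oddPart a) (mem_map_of_mem _ hy)))
    · rintro ⟨hx, ho⟩
      refine ⟨⟨x, mem_centralizer_singleton_iff.2 hx⟩, CfsgLib.Transfer.mem_pResidual ?_, rfl⟩
      rw [Subgroup.orderOf_mk]
      exact ho.coprime_two_right
  set W := ⨆ b : {b : G // b ∈ U ∧ b ≠ 1}, oddPart (b : G) with hW
  obtain ⟨hWodd, hWC⟩ := Cfsg.Agent.S0217.result (p := 2) U hcomm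
    (fun a ha => by rw [pow_two]; exact hsq a ha) (by rw [hU8]; norm_num) oddPart
    (fun a ha ha1 x hx => mem_centralizer_singleton_iff.2 ((hmem a ha ha1 x).1 hx).1)
    hodd
    (fun a ha ha1 b hb x hx => by
      obtain ⟨h1, h2⟩ := (hmem a ha ha1 x).1 hx
      refine (hmem a ha ha1 _).2 ⟨?_, ?_⟩
      · have hab : Commute b a := hcomm b hb a ha
        exact ((hab.mul_left h1).mul_left hab.inv_left)
      · rwa [show b * x * b⁻¹ = MulAut.conj b x from rfl, MulEquiv.orderOf_eq])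
    (fun a ha ha1 => solvable_odd (Nat.not_even_iff_odd.1 fun e => hodd a ha ha1 e.two_dvd))
    (fun a ha ha1 b hb hb1 x hx => (hmem b hb hb1 x).2
      ⟨mem_centralizer_singleton_iff.1 hx.2, ((hmem a ha ha1 x).1 hx.1).2⟩)
  set M := normalizer (W : Set G) with hM
  have hNM : N ≤ M := by
    intro g hg
    have hle : ∀ g ∈ N, ∀ y ∈ W, g * y * g⁻¹ ∈ W := by
      intro g hg y hy
      have : W ≤ W.comap (MulAut.conj g).toMonoidHom := by
        refine iSup_le fun ⟨b, hb, hb1⟩ => fun y hy => ?_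
        obtain ⟨h1, h2⟩ := (hmem b hb hb1 y).1 hy
        have hb' : g * b * g⁻¹ ∈ U := (mem_normalizer_iff.1 hg b).1 hb
        have hb1' : g * b * g⁻¹ ≠ 1 := by simpa using hb1
        refine le_iSup (fun b : {b : G // b ∈ U ∧ b ≠ 1} => oddPart (b : G)) ⟨_, hb', hb1'⟩ ?_
        refine (hmem _ hb' hb1' _).2 ⟨?_, ?_⟩
        · show g * y * g⁻¹ * (g * b * g⁻¹) = g * b * g⁻¹ * (g * y * g⁻¹)
          calc g * y * g⁻¹ * (g * b * g⁻¹) = g * (y * b) * g⁻¹ := by group
            _ = g * (b * y) * g⁻¹ := by rw [h1]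
            _ = g * b * g⁻¹ * (g * y * g⁻¹) := by group
        · rwa [MulEquiv.coe_toMonoidHom, MulEquiv.orderOf_eq]
      exact this hy
    rw [hM, mem_normalizer_iff]
    intro y
    refine ⟨hle g hg y, fun hy => ?_⟩
    have := hle g⁻¹ (inv_mem hg) _ hy
    simpa [mul_assoc] using this
  have hCW : ∀ a ∈ U, a ≠ 1 → ∀ x ∈ centralizer ({a} : Set G), ∃ k ∈ oddPart a, ∃ u ∈ U, k * u = x := by
    intro a ha ha1 x hx
    let P : Sylow 2 ↥(centralizer ({a} : Set G)) := T.subtype (hT.le.trans (hUC a ha))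
    haveI := pResidual_normal (G := ↥(centralizer ({a} : Set G))) (p := 2)
    have hc := CfsgLib.Transfer.isComplement'_of_coprime (Cfsg.pResidual 2 _)
      (CfsgLib.Transfer.hasNormalPComplement_iff.1 (hnpc a ha ha1))
      (CfsgLib.Transfer.isPGroup_quotient_of_pResidual_le _ le_rfl) P
    obtain ⟨⟨⟨k, hk⟩, ⟨u, hu⟩⟩, hku⟩ := hc.2 ⟨x, hx⟩
    refine ⟨k, mem_map_of_mem _ hk, u, ?_, congrArg Subtype.val hku⟩
    have : u ∈ (P : Subgroup ↥(centralizer ({a} : Set G))) := hu
    rwa [Sylow.coe_subtype, mem_subgroupOf, hT] at this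
  have hUM : U ≤ M := le_trans le_normalizer hNM
  have hWM : W ≤ M := le_normalizer
  have hCM : ∀ a ∈ U, a ≠ 1 → centralizer ({a} : Set G) ≤ M := by
    intro a ha ha1 x hx
    obtain ⟨k, hk, u, hu, rfl⟩ := hCW a ha ha1 x hx
    exact mul_mem (hWM (le_iSup (fun b : {b : G // b ∈ U ∧ b ≠ 1} => oddPart (b : G))
      ⟨a, ha, ha1⟩ hk)) (hUM hu)
  have hWbot : W = ⊥ := by
    by_cases hMtop : M = ⊤
    · haveI : W.Normal := normalizer_eq_top_iff.1 hMtop
      exact eq_bot_iff.2 (hO ▸ CfsgLib.PCore.le_pPrimeCore_of_not_dvd inferInstance hWodd)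
    have hse : Cfsg.IsStronglyEmbedded M := by
      refine ⟨hMtop, even_iff_two_dvd.2 ((show 2 ∣ Nat.card U by rw [hU8]; norm_num).trans
        (card_dvd_of_le hUM)), fun g hg => ?_⟩
      rw [← Nat.not_even_iff_odd]
      intro he
      obtain ⟨t, ht⟩ := exists_prime_orderOf_dvd_card'
        (G := ↥(M ⊓ M.map (MulAut.conj g).toMonoidHom)) 2 he.two_dvd
      rw [← Subgroup.orderOf_coe] at ht
      obtain ⟨htM, s, hs, hst⟩ := t.2
      have hso : orderOf s = 2 := by
        rw [← ht, ← hst, MulEquiv.coe_toMonoidHom, MulEquiv.orderOf_eq]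
      have hconj : ∀ y ∈ M, orderOf y = 2 → ∃ m ∈ M, ∃ a ∈ U, a ≠ 1 ∧ m * a * m⁻¹ = y := by
        intro y hy hyo
        have h2y : IsPGroup 2 (zpowers (⟨y, hy⟩ : M)) := by
          refine IsPGroup.of_card (n := 1) ?_
          rw [Nat.card_zpowers, Subgroup.orderOf_mk, hyo, pow_one]
        obtain ⟨P, hP⟩ := h2y.exists_le_sylow
        obtain ⟨m, hm⟩ := MulAction.exists_smul_eq M (T.subtype (hT.le.trans hUM)) P
        have hyP : (⟨y, hy⟩ : M) ∈ (P : Subgroup M) := hP (mem_zpowers _)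
        rw [← hm, Sylow.coe_subgroup_smul] at hyP
        obtain ⟨a, ha, hay⟩ := hyP
        rw [SetLike.mem_coe, Sylow.coe_subtype, mem_subgroupOf, hT] at ha
        have hay' : (m : G) * a * (m : G)⁻¹ = y := congrArg Subtype.val hay
        refine ⟨m, m.2, a, ha, fun e => ?_, hay'⟩
        rw [e, mul_one, mul_inv_cancel] at hay'
        rw [← hay', orderOf_one] at hyo
        omega
      obtain ⟨m, hm, a, ha, ha1, hma⟩ := hconj _ htM ht
      obtain ⟨m', hm', a', ha', ha1', hma'⟩ := hconj s hs hso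
      obtain ⟨i, hi⟩ := htr a' ha' a ha ha1' ha1
      set k := n ^ i
      have hkM : k ∈ M := hNM (zpow_mem hn i)
      have hst' : g * s * g⁻¹ = (t : G) := hst
      have hc : m⁻¹ * g * m' * k⁻¹ ∈ centralizer ({a} : Set G) := by
        rw [mem_centralizer_singleton_iff]
        calc m⁻¹ * g * m' * k⁻¹ * a = m⁻¹ * g * (m' * a' * m'⁻¹) * g⁻¹ * g * m' * k⁻¹ := by
              rw [← hi]; group
          _ = m⁻¹ * (m * a * m⁻¹) * g * m' * k⁻¹ := by rw [hma', hma, ← hst']; group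
          _ = a * (m⁻¹ * g * m' * k⁻¹) := by group
      refine hg ?_
      have := mul_mem (mul_mem (mul_mem hm (hCM a ha ha1 hc)) hkM) (inv_mem hm')
      simpa [mul_assoc] using this
    have h1 := hSE G M hse
    rw [hO, le_bot_iff] at h1
    have h2 : W.subgroupOf M ≤ Cfsg.oddCore ↥M :=
      CfsgLib.PCore.le_pPrimeCore_of_not_dvd normal_in_normalizer
        (by rwa [Nat.card_congr (subgroupOfEquivOfLe hWM).toEquiv])
    rw [eq_bot_iff, ← h1]
    intro x hx
    exact ⟨⟨x, hWM hx⟩, h2 hx, rfl⟩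
  have hCU : ∀ a ∈ U, a ≠ 1 → centralizer ({a} : Set G) = U := by
    intro a ha ha1
    refine le_antisymm (fun x hx => ?_) (hUC a ha)
    obtain ⟨k, hk, u, hu, rfl⟩ := hCW a ha ha1 x hx
    have : k ∈ W := le_iSup (fun b : {b : G // b ∈ U ∧ b ≠ 1} => oddPart (b : G)) ⟨a, ha, ha1⟩ hk
    rw [hWbot, mem_bot] at this
    rwa [this, one_mul]
  have hinv : ∀ t : G, orderOf t = 2 → ∃ g : G, ∃ a ∈ U, a ≠ 1 ∧ g * a * g⁻¹ = t := by
    intro t ht
    obtain ⟨P, hP⟩ := (IsPGroup.of_card (n := 1) (p := 2) (G := zpowers t)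
      (by rw [Nat.card_zpowers, ht, pow_one])).exists_le_sylow
    obtain ⟨g, hg⟩ := MulAction.exists_smul_eq G T P
    have htP : t ∈ (P : Subgroup G) := hP (mem_zpowers t)
    rw [← hg, Sylow.coe_subgroup_smul, hT] at htP
    obtain ⟨a, ha, hat⟩ := htP
    have hat' : g * a * g⁻¹ = t := hat
    refine ⟨g, a, ha, fun e => ?_, hat'⟩
    rw [e, mul_one, mul_inv_cancel] at hat'
    rw [← hat', orderOf_one] at ht
    omega
  have hC : ∀ t : G, orderOf t = 2 → IsMulCommutative (centralizer ({t} : Set G)) ∧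
      ∀ c ∈ centralizer ({t} : Set G), c ^ 2 = 1 := by
    intro t ht
    obtain ⟨g, a, ha, ha1, rfl⟩ := hinv t ht
    have hin : ∀ c ∈ centralizer ({g * a * g⁻¹} : Set G), g⁻¹ * c * g ∈ U := by
      intro c hc
      rw [← hCU a ha ha1, mem_centralizer_singleton_iff]
      calc g⁻¹ * c * g * a = g⁻¹ * (c * (g * a * g⁻¹)) * g := by group
        _ = g⁻¹ * ((g * a * g⁻¹) * c) * g := by rw [mem_centralizer_singleton_iff.1 hc]
        _ = a * (g⁻¹ * c * g) := by group
    constructor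
    · refine ⟨⟨fun x y => Subtype.ext ?_⟩⟩
      have h := hcomm _ (hin x x.2) _ (hin y y.2)
      calc (x : G) * y = g * ((g⁻¹ * x * g) * (g⁻¹ * y * g)) * g⁻¹ := by group
        _ = (y : G) * x := by rw [h]; group
    · intro c hc
      have h := hsq _ (hin c hc)
      calc c ^ 2 = g * ((g⁻¹ * c * g) * (g⁻¹ * c * g)) * g⁻¹ := by rw [pow_two]; group
        _ = 1 := by rw [h]; group
  have hnn : ¬ (T : Subgroup G).Normal := by
    intro hnor
    rw [hT] at hnor
    haveI := hnor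
    have : N = ⊤ := normalizer_eq_top U
    rw [this, card_top] at h3
    exact h3 h3G
  have hnc : ¬ IsCyclic (T : Subgroup G) := by
    intro hc
    rw [hT] at hc
    obtain ⟨x, hx⟩ := hc.exists_generator
    have hx8 : orderOf x = 8 := by rw [orderOf_eq_card_of_forall_mem_zpowers hx, hU8]
    have h2 : orderOf x ∣ 2 := orderOf_dvd_of_pow_eq_one (Subtype.ext (by
      rw [pow_two, Subgroup.coe_mul, Subgroup.coe_one]; exact hsq x x.2))
    rw [hx8] at h2
    norm_num at h2
  obtain ⟨F, _, _, hF, ⟨e⟩⟩ := Cfsg.Agent.S1230.result T hnc hnn hC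
  have hF8 : Fintype.card F = 8 := by rw [hF, ← hU8, ← hT]
  refine h9 ?_
  rw [Nat.card_congr e.toEquiv]
  have h := CfsgLib.PSL2.card_psl (F := F)
  rw [hF8, show Nat.gcd 2 (8 - 1) = 1 by decide, one_mul] at h
  rw [h]; norm_num

theorem twentyFour (hSE : StronglyEmbeddedCores.{u}) (hd : 24 ∣ Nat.card G)
    (hc : Nat.Coprime 24 (Nat.card G / 24)) : ∃ H : Subgroup G, Nat.card H = 24 := by
  by_cases hn : Cfsg.HasNormalPComplement 2 G
  · haveI := solvable_of_npc hn
    exact exists_card_of_isSolvable hd hc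
  haveI : Fact (Nat.Prime 2) := ⟨Nat.prime_two⟩
  have h16 : ¬ 2 ^ (3 + 1) ∣ Nat.card G :=
    not_two_mul_dvd hd hc Nat.prime_two (by norm_num) (by norm_num)
  have h9 : ¬ 3 ^ 2 ∣ Nat.card G :=
    not_two_mul_dvd hd hc Nat.prime_three (by norm_num) (by norm_num)
  set O := Cfsg.oddCore G with hO
  have hOodd : ¬ 2 ∣ Nat.card O := CfsgLib.PCore.not_dvd_card_pPrimeCore
  haveI : Group.IsSolvable O := solvable_odd (Nat.not_even_iff_odd.1 fun e => hOodd e.two_dvd)
  set Q := G ⧸ O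
  have hcardQ := card_eq_card_quotient_mul_card_subgroup O
  have h8O : Nat.Coprime 8 (Nat.card O) :=
    Nat.Coprime.pow_left 3 (Nat.prime_two.coprime_iff_not_dvd.2 hOodd)
  have h8Q : 8 ∣ Nat.card Q := h8O.dvd_of_dvd_mul_right ((dvd_trans (by norm_num) hd).trans hcardQ.dvd)
  have lift : ∀ Y : Subgroup Q, Group.IsSolvable Y → 8 ∣ Nat.card Y →
      (3 ∣ Nat.card Y ∨ 3 ∣ Nat.card O) → ∃ H : Subgroup G, Nat.card H = 24 := by
    intro Y hY h8 h3
    set X := Y.comap (QuotientGroup.mk' O)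
    have hOX : O ≤ X := fun x hx => by
      rw [mem_comap, QuotientGroup.mk'_apply, (QuotientGroup.eq_one_iff x).2 hx]; exact one_mem Y
    haveI : Group.IsSolvable X := by
      let π : X →* Y := (QuotientGroup.mk' O).subgroupComap Y
      haveI := hY
      refine solvable_of_ker_le_range (Subgroup.inclusion hOX) π ?_
      intro x hx
      have : QuotientGroup.mk' O (x : G) = 1 := congrArg Subtype.val (MonoidHom.mem_ker.1 hx)
      exact ⟨⟨x, (QuotientGroup.eq_one_iff _).1 this⟩, rfl⟩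
    refine exists_card_of_solvable hd hc X ?_
    rw [CfsgLib.PCore.card_comap_mk']
    refine Nat.Coprime.mul_dvd_of_dvd_of_dvd (by norm_num : Nat.Coprime 8 3) ?_ ?_
    · exact Dvd.dvd.mul_left h8 _
    · rcases h3 with h3 | h3
      · exact Dvd.dvd.mul_left h3 _
      · exact Dvd.dvd.mul_right h3 _
  by_cases h3O : 3 ∣ Nat.card O
  · obtain ⟨U, hU⟩ := Sylow.exists_subgroup_card_pow_prime (G := Q) 2 (n := 3)
      (by simpa using h8Q)
    haveI : Group.IsNilpotent U := (IsPGroup.of_card (n := 3) hU).isNilpotent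
    exact lift U inferInstance (by rw [hU]; norm_num) (Or.inr h3O)
  have h3Q : 3 ∣ Nat.card Q := (Nat.prime_three.coprime_iff_not_dvd.2 h3O).dvd_of_dvd_mul_right
    ((dvd_trans (by norm_num) hd).trans hcardQ.dvd)
  have h16Q : ¬ 2 ^ (3 + 1) ∣ Nat.card Q := fun h => h16 (hcardQ ▸ Dvd.dvd.mul_right h _)
  have h9Q : ¬ 3 ^ 2 ∣ Nat.card Q := fun h => h9 (hcardQ ▸ Dvd.dvd.mul_right h _)
  by_cases hnQ : Cfsg.HasNormalPComplement 2 Q
  · haveI := solvable_of_npc hnQ
    exact lift ⊤ inferInstance (by rwa [card_top]) (Or.inl (by rwa [card_top]))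
  rcases fusion_cases (a := 3) le_rfl h16Q hnQ with ⟨U, hU, h4, h3⟩ | ⟨U, -, hU8, n, hn', htr⟩
  · refine lift (normalizer (U : Set Q)) (solvable_normalizer h16Q hU h4) ?_ (Or.inl h3)
    obtain ⟨b, hb⟩ := hU.exists_card_eq
    obtain ⟨T, hT⟩ := hU.exists_le_sylow
    obtain ⟨k, hk⟩ := T.2.exists_card_eq
    have hbk : b ≤ k := by
      refine (Nat.pow_dvd_pow_iff_le_right (x := 2) (by norm_num)).1 ?_
      rw [← hb, ← hk]; exact card_dvd_of_le hT
    have hb2 : 2 ≤ b := (Nat.pow_dvd_pow_iff_le_right (x := 2) (by norm_num)).1 (hb ▸ h4)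
    have hk3 : k ≤ 3 := by
      by_contra hlt
      exact h16Q ((pow_dvd_pow 2 (by omega)).trans (hk ▸ card_subgroup_dvd_card (T : Subgroup Q)))
    have hT8 : (T : Subgroup Q) ≤ normalizer (U : Set Q) := by
      have hidx : (U.subgroupOf (T : Subgroup Q)).index ≤ 2 := by
        have h := (U.subgroupOf (T : Subgroup Q)).card_mul_index
        rw [Nat.card_congr (subgroupOfEquivOfLe hT).toEquiv, hb, hk] at h
        have hle : 2 ^ k ≤ 2 ^ b * 2 := by
          rw [← pow_succ]; exact Nat.pow_le_pow_right two_pos (by omega)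
        exact Nat.le_of_mul_le_mul_left (h ▸ hle) (pow_pos two_pos b)
      haveI : (U.subgroupOf (T : Subgroup Q)).Normal := by
        rcases (show (U.subgroupOf (T : Subgroup Q)).index = 1 ∨
            (U.subgroupOf (T : Subgroup Q)).index = 2 by
          have := (U.subgroupOf (T : Subgroup Q)).index_ne_zero_of_finite
          omega) with h1 | h1
        · rw [index_eq_one.1 h1]; infer_instance
        · exact normal_of_index_eq_two h1
      exact le_normalizer_of_normal_subgroupOf hT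
    refine (show 8 ∣ Nat.card (T : Subgroup Q) from ?_).trans (card_dvd_of_le hT8)
    have h := T.card_eq_multiplicity
    have hfac : 3 ≤ (Nat.card Q).factorization 2 :=
      (Nat.prime_two.pow_dvd_iff_le_factorization Nat.card_pos.ne').1 (by simpa using h8Q)
    rw [h, show 8 = 2 ^ 3 from rfl]
    exact pow_dvd_pow 2 hfac
  · by_cases h3N : 3 ∣ Nat.card (normalizer (U : Set Q))
    · refine lift _ (solvable_normalizer h16Q (IsPGroup.of_card (n := 3) (by rw [hU8]; norm_num))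
        (by rw [hU8]; norm_num)) ?_ (Or.inl h3N)
      exact (show 8 ∣ Nat.card U by rw [hU8]).trans (card_dvd_of_le le_normalizer)
    exact (twentyFour_core hSE h16Q h9Q h3Q CfsgLib.InvChar.oddCore_quotient_oddCore U hU8 h3N n hn'
      htr).elim

end CfsgLib.HallNumbers
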