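import Mathlib
import Cfsg.Agent.Lib.HallNumbers.Converse
import Cfsg.Agent.Lib.HallNumbers.TwentyFour
import Cfsg.Agent.Lib.HallNumbers.Sixty

/-!
The integers `m` such that every group with `m` as a Hall divisor of the order has a subgroup of
order `m`, from the core theorem for strongly embedded subgroups and the classification of perfect
groups with dihedral Sylow 2-subgroups.
-/

set_option autoImplicit false

namespace CfsgLib.HallNumbers

theorem hall_numbers (hSE : StronglyEmbeddedCores.{0})
    (hGW : CfsgLib.GWCons.RankOneCover.DihedralClassification.{0}) (m : ℕ) (hm : 2 ≤ m) :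
    (∀ (G : Type) [Group G] [Finite G], m ∣ Nat.card G → m.Coprime (Nat.card G / m) →
        ∃ H : Subgroup G, Nat.card H = m) ↔
    (IsPrimePow m ∨ m % 4 = 2 ∨ m = 12 ∨ m = 24 ∨ m = 60) := by
  constructor
  · intro h
    by_contra hc
    simp only [not_or] at hc
    obtain ⟨h1, h2, h12, h24, h60⟩ := hc
    obtain ⟨G, _, _, hd, hco, hno⟩ := exists_no_hall hm h1 h2 h12 h24 h60
    obtain ⟨H, hH⟩ := h G hd hco
    exact hno H hH
  · intro h G _ _ hd hc
    rcases h with h | h | rfl | rfl | rfl
    · exact prime_pow h hd
    · exact two_mod_four h hd hc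
    · exact twelve hd hc
    · exact twentyFour hSE hd hc
    · exact sixty hGW hd hc

end CfsgLib.HallNumbers
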